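import Cfsg.Agent.Lib.H6.ONF.Tab

set_option autoImplicit false
set_option maxRecDepth 1000000

/-! # checks, part 10 (generated) -/

namespace Cfsg.Agent.Lib.H6.ONF

open Cfsg.Agent.Lib.H17.CosetCert Cfsg.Agent.Lib.H6.PermTab Cfsg.Agent.Lib.H6.PermFast

set_option maxHeartbeats 0 in
theorem chk80 : checkAll T eqPairs 12 8 122760 81920 1024 = true := by
  decide +kernel

set_option maxHeartbeats 0 in
theorem chk81 : checkAll T eqPairs 12 8 122760 82944 1024 = true := by
  decide +kernel

set_option maxHeartbeats 0 in
theorem chk82 : checkAll T eqPairs 12 8 122760 83968 1024 = true := by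
  decide +kernel

set_option maxHeartbeats 0 in
theorem chk83 : checkAll T eqPairs 12 8 122760 84992 1024 = true := by
  decide +kernel

set_option maxHeartbeats 0 in
theorem chk84 : checkAll T eqPairs 12 8 122760 86016 1024 = true := by
  decide +kernel

set_option maxHeartbeats 0 in
theorem chk85 : checkAll T eqPairs 12 8 122760 87040 1024 = true := by
  decide +kernel

set_option maxHeartbeats 0 in
theorem chk86 : checkAll T eqPairs 12 8 122760 88064 1024 = true := by
  decide +kernel

set_option maxHeartbeats 0 in
theorem chk87 : checkAll T eqPairs 12 8 122760 89088 1024 = true := by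
  decide +kernel

end Cfsg.Agent.Lib.H6.ONF
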