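import Cfsg.Agent.Lib.H6.ONF.Tab

set_option autoImplicit false
set_option maxRecDepth 1000000

/-! # checks, part 11 (generated) -/

namespace Cfsg.Agent.Lib.H6.ONF

open Cfsg.Agent.Lib.H17.CosetCert Cfsg.Agent.Lib.H6.PermTab Cfsg.Agent.Lib.H6.PermFast

set_option maxHeartbeats 0 in
theorem chk88 : checkAll T eqPairs 12 8 122760 90112 1024 = true := by
  decide +kernel

set_option maxHeartbeats 0 in
theorem chk89 : checkAll T eqPairs 12 8 122760 91136 1024 = true := by
  decide +kernel

set_option maxHeartbeats 0 in
theorem chk90 : checkAll T eqPairs 12 8 122760 92160 1024 = true := by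
  decide +kernel

set_option maxHeartbeats 0 in
theorem chk91 : checkAll T eqPairs 12 8 122760 93184 1024 = true := by
  decide +kernel

set_option maxHeartbeats 0 in
theorem chk92 : checkAll T eqPairs 12 8 122760 94208 1024 = true := by
  decide +kernel

set_option maxHeartbeats 0 in
theorem chk93 : checkAll T eqPairs 12 8 122760 95232 1024 = true := by
  decide +kernel

set_option maxHeartbeats 0 in
theorem chk94 : checkAll T eqPairs 12 8 122760 96256 1024 = true := by
  decide +kernel

set_option maxHeartbeats 0 in
theorem chk95 : checkAll T eqPairs 12 8 122760 97280 1024 = true := by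
  decide +kernel

end Cfsg.Agent.Lib.H6.ONF
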