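import Cfsg.Agent.Lib.H6.ONF.Tab

set_option autoImplicit false
set_option maxRecDepth 1000000

/-! # checks, part 14 (generated) -/

namespace Cfsg.Agent.Lib.H6.ONF

open Cfsg.Agent.Lib.H17.CosetCert Cfsg.Agent.Lib.H6.PermTab Cfsg.Agent.Lib.H6.PermFast

set_option maxHeartbeats 0 in
theorem chk112 : checkAll T eqPairs 12 8 122760 114688 1024 = true := by
  decide +kernel

set_option maxHeartbeats 0 in
theorem chk113 : checkAll T eqPairs 12 8 122760 115712 1024 = true := by
  decide +kernel

set_option maxHeartbeats 0 in
theorem chk114 : checkAll T eqPairs 12 8 122760 116736 1024 = true := by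
  decide +kernel

set_option maxHeartbeats 0 in
theorem chk115 : checkAll T eqPairs 12 8 122760 117760 1024 = true := by
  decide +kernel

set_option maxHeartbeats 0 in
theorem chk116 : checkAll T eqPairs 12 8 122760 118784 1024 = true := by
  decide +kernel

set_option maxHeartbeats 0 in
theorem chk117 : checkAll T eqPairs 12 8 122760 119808 1024 = true := by
  decide +kernel

set_option maxHeartbeats 0 in
theorem chk118 : checkAll T eqPairs 12 8 122760 120832 1024 = true := by
  decide +kernel

set_option maxHeartbeats 0 in
theorem chk119 : checkAll T eqPairs 12 8 122760 121856 904 = true := by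
  decide +kernel

end Cfsg.Agent.Lib.H6.ONF
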