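import Cfsg.Agent.Lib.H6.ONF.Tab

set_option autoImplicit false
set_option maxRecDepth 1000000

/-! # checks, part 2 (generated) -/

namespace Cfsg.Agent.Lib.H6.ONF

open Cfsg.Agent.Lib.H17.CosetCert Cfsg.Agent.Lib.H6.PermTab Cfsg.Agent.Lib.H6.PermFast

set_option maxHeartbeats 0 in
theorem chk16 : checkAll T eqPairs 12 8 122760 16384 1024 = true := by
  decide +kernel

set_option maxHeartbeats 0 in
theorem chk17 : checkAll T eqPairs 12 8 122760 17408 1024 = true := by
  decide +kernel

set_option maxHeartbeats 0 in
theorem chk18 : checkAll T eqPairs 12 8 122760 18432 1024 = true := by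
  decide +kernel

set_option maxHeartbeats 0 in
theorem chk19 : checkAll T eqPairs 12 8 122760 19456 1024 = true := by
  decide +kernel

set_option maxHeartbeats 0 in
theorem chk20 : checkAll T eqPairs 12 8 122760 20480 1024 = true := by
  decide +kernel

set_option maxHeartbeats 0 in
theorem chk21 : checkAll T eqPairs 12 8 122760 21504 1024 = true := by
  decide +kernel

set_option maxHeartbeats 0 in
theorem chk22 : checkAll T eqPairs 12 8 122760 22528 1024 = true := by
  decide +kernel

set_option maxHeartbeats 0 in
theorem chk23 : checkAll T eqPairs 12 8 122760 23552 1024 = true := by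
  decide +kernel

end Cfsg.Agent.Lib.H6.ONF
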