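import Cfsg.Agent.Lib.H6.ONF.Tab

set_option autoImplicit false
set_option maxRecDepth 1000000

/-! # checks, part 3 (generated) -/

namespace Cfsg.Agent.Lib.H6.ONF

open Cfsg.Agent.Lib.H17.CosetCert Cfsg.Agent.Lib.H6.PermTab Cfsg.Agent.Lib.H6.PermFast

set_option maxHeartbeats 0 in
theorem chk24 : checkAll T eqPairs 12 8 122760 24576 1024 = true := by
  decide +kernel

set_option maxHeartbeats 0 in
theorem chk25 : checkAll T eqPairs 12 8 122760 25600 1024 = true := by
  decide +kernel

set_option maxHeartbeats 0 in
theorem chk26 : checkAll T eqPairs 12 8 122760 26624 1024 = true := by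
  decide +kernel

set_option maxHeartbeats 0 in
theorem chk27 : checkAll T eqPairs 12 8 122760 27648 1024 = true := by
  decide +kernel

set_option maxHeartbeats 0 in
theorem chk28 : checkAll T eqPairs 12 8 122760 28672 1024 = true := by
  decide +kernel

set_option maxHeartbeats 0 in
theorem chk29 : checkAll T eqPairs 12 8 122760 29696 1024 = true := by
  decide +kernel

set_option maxHeartbeats 0 in
theorem chk30 : checkAll T eqPairs 12 8 122760 30720 1024 = true := by
  decide +kernel

set_option maxHeartbeats 0 in
theorem chk31 : checkAll T eqPairs 12 8 122760 31744 1024 = true := by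
  decide +kernel

end Cfsg.Agent.Lib.H6.ONF
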