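import Cfsg.Agent.Lib.H6.ONF.Tab

set_option autoImplicit false
set_option maxRecDepth 1000000

/-! # checks, part 4 (generated) -/

namespace Cfsg.Agent.Lib.H6.ONF

open Cfsg.Agent.Lib.H17.CosetCert Cfsg.Agent.Lib.H6.PermTab Cfsg.Agent.Lib.H6.PermFast

set_option maxHeartbeats 0 in
theorem chk32 : checkAll T eqPairs 12 8 122760 32768 1024 = true := by
  decide +kernel

set_option maxHeartbeats 0 in
theorem chk33 : checkAll T eqPairs 12 8 122760 33792 1024 = true := by
  decide +kernel

set_option maxHeartbeats 0 in
theorem chk34 : checkAll T eqPairs 12 8 122760 34816 1024 = true := by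
  decide +kernel

set_option maxHeartbeats 0 in
theorem chk35 : checkAll T eqPairs 12 8 122760 35840 1024 = true := by
  decide +kernel

set_option maxHeartbeats 0 in
theorem chk36 : checkAll T eqPairs 12 8 122760 36864 1024 = true := by
  decide +kernel

set_option maxHeartbeats 0 in
theorem chk37 : checkAll T eqPairs 12 8 122760 37888 1024 = true := by
  decide +kernel

set_option maxHeartbeats 0 in
theorem chk38 : checkAll T eqPairs 12 8 122760 38912 1024 = true := by
  decide +kernel

set_option maxHeartbeats 0 in
theorem chk39 : checkAll T eqPairs 12 8 122760 39936 1024 = true := by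
  decide +kernel

end Cfsg.Agent.Lib.H6.ONF
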