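import Cfsg.Agent.Lib.H6.ONF.Tab

set_option autoImplicit false
set_option maxRecDepth 1000000

/-! # checks, part 6 (generated) -/

namespace Cfsg.Agent.Lib.H6.ONF

open Cfsg.Agent.Lib.H17.CosetCert Cfsg.Agent.Lib.H6.PermTab Cfsg.Agent.Lib.H6.PermFast

set_option maxHeartbeats 0 in
theorem chk48 : checkAll T eqPairs 12 8 122760 49152 1024 = true := by
  decide +kernel

set_option maxHeartbeats 0 in
theorem chk49 : checkAll T eqPairs 12 8 122760 50176 1024 = true := by
  decide +kernel

set_option maxHeartbeats 0 in
theorem chk50 : checkAll T eqPairs 12 8 122760 51200 1024 = true := by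
  decide +kernel

set_option maxHeartbeats 0 in
theorem chk51 : checkAll T eqPairs 12 8 122760 52224 1024 = true := by
  decide +kernel

set_option maxHeartbeats 0 in
theorem chk52 : checkAll T eqPairs 12 8 122760 53248 1024 = true := by
  decide +kernel

set_option maxHeartbeats 0 in
theorem chk53 : checkAll T eqPairs 12 8 122760 54272 1024 = true := by
  decide +kernel

set_option maxHeartbeats 0 in
theorem chk54 : checkAll T eqPairs 12 8 122760 55296 1024 = true := by
  decide +kernel

set_option maxHeartbeats 0 in
theorem chk55 : checkAll T eqPairs 12 8 122760 56320 1024 = true := by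
  decide +kernel

end Cfsg.Agent.Lib.H6.ONF
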