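import Cfsg.Agent.Lib.H6.ONF.Tab

set_option autoImplicit false
set_option maxRecDepth 1000000

/-! # checks, part 7 (generated) -/

namespace Cfsg.Agent.Lib.H6.ONF

open Cfsg.Agent.Lib.H17.CosetCert Cfsg.Agent.Lib.H6.PermTab Cfsg.Agent.Lib.H6.PermFast

set_option maxHeartbeats 0 in
theorem chk56 : checkAll T eqPairs 12 8 122760 57344 1024 = true := by
  decide +kernel

set_option maxHeartbeats 0 in
theorem chk57 : checkAll T eqPairs 12 8 122760 58368 1024 = true := by
  decide +kernel

set_option maxHeartbeats 0 in
theorem chk58 : checkAll T eqPairs 12 8 122760 59392 1024 = true := by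
  decide +kernel

set_option maxHeartbeats 0 in
theorem chk59 : checkAll T eqPairs 12 8 122760 60416 1024 = true := by
  decide +kernel

set_option maxHeartbeats 0 in
theorem chk60 : checkAll T eqPairs 12 8 122760 61440 1024 = true := by
  decide +kernel

set_option maxHeartbeats 0 in
theorem chk61 : checkAll T eqPairs 12 8 122760 62464 1024 = true := by
  decide +kernel

set_option maxHeartbeats 0 in
theorem chk62 : checkAll T eqPairs 12 8 122760 63488 1024 = true := by
  decide +kernel

set_option maxHeartbeats 0 in
theorem chk63 : checkAll T eqPairs 12 8 122760 64512 1024 = true := by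
  decide +kernel

end Cfsg.Agent.Lib.H6.ONF
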