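import Cfsg.Agent.Lib.H6.ONF.Chk0
import Cfsg.Agent.Lib.H6.ONF.Chk1
import Cfsg.Agent.Lib.H6.ONF.Chk2
import Cfsg.Agent.Lib.H6.ONF.Chk3
import Cfsg.Agent.Lib.H6.ONF.Chk4
import Cfsg.Agent.Lib.H6.ONF.Chk5
import Cfsg.Agent.Lib.H6.ONF.Chk6
import Cfsg.Agent.Lib.H6.ONF.Chk7
import Cfsg.Agent.Lib.H6.ONF.Chk8
import Cfsg.Agent.Lib.H6.ONF.Chk9
import Cfsg.Agent.Lib.H6.ONF.Chk10
import Cfsg.Agent.Lib.H6.ONF.Chk11
import Cfsg.Agent.Lib.H6.ONF.Chk12
import Cfsg.Agent.Lib.H6.ONF.Chk13
import Cfsg.Agent.Lib.H6.ONF.Chk14

set_option autoImplicit false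
set_option maxRecDepth 1000000

/-! # the tables are good (generated) -/

namespace Cfsg.Agent.Lib.H6.ONF

open Cfsg.Agent.Lib.H17.CosetCert Cfsg.Agent.Lib.H6.PermTab Cfsg.Agent.Lib.H6.PermFast

/-- the number of points -/
abbrev n : ℕ := 122760

set_option maxHeartbeats 0 in
theorem all_chunks : ∀ i < 122760, (∀ p ∈ eqPairs, applyW T p.1 i = applyW T p.2 i) ∧
    (∀ x < 12, T x i < 122760) ∧ (i ≠ 0 → ∃ x < 8, T x i < i) := by
  intro i hi
  have hk : i / 1024 < 120 := by omega
  have h1 : i / 1024 * 1024 ≤ i := Nat.div_mul_le_self i 1024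
  have h2 : i < i / 1024 * 1024 + 1024 := by have := Nat.lt_div_mul_add (a := i) (b := 1024) (by norm_num); omega
  generalize i / 1024 = k at hk h1 h2
  interval_cases k
  · have h := checkAll_sound T eqPairs 12 8 122760 _ _ chk0
    exact ⟨fun p hp => h.1 p hp i (by omega) (by omega), h.2.1 i (by omega) (by omega), h.2.2 i (by omega) (by omega)⟩
  · have h := checkAll_sound T eqPairs 12 8 122760 _ _ chk1
    exact ⟨fun p hp => h.1 p hp i (by omega) (by omega), h.2.1 i (by omega) (by omega), h.2.2 i (by omega) (by omega)⟩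
  · have h := checkAll_sound T eqPairs 12 8 122760 _ _ chk2
    exact ⟨fun p hp => h.1 p hp i (by omega) (by omega), h.2.1 i (by omega) (by omega), h.2.2 i (by omega) (by omega)⟩
  · have h := checkAll_sound T eqPairs 12 8 122760 _ _ chk3
    exact ⟨fun p hp => h.1 p hp i (by omega) (by omega), h.2.1 i (by omega) (by omega), h.2.2 i (by omega) (by omega)⟩
  · have h := checkAll_sound T eqPairs 12 8 122760 _ _ chk4
    exact ⟨fun p hp => h.1 p hp i (by omega) (by omega), h.2.1 i (by omega) (by omega), h.2.2 i (by omega) (by omega)⟩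
  · have h := checkAll_sound T eqPairs 12 8 122760 _ _ chk5
    exact ⟨fun p hp => h.1 p hp i (by omega) (by omega), h.2.1 i (by omega) (by omega), h.2.2 i (by omega) (by omega)⟩
  · have h := checkAll_sound T eqPairs 12 8 122760 _ _ chk6
    exact ⟨fun p hp => h.1 p hp i (by omega) (by omega), h.2.1 i (by omega) (by omega), h.2.2 i (by omega) (by omega)⟩
  · have h := checkAll_sound T eqPairs 12 8 122760 _ _ chk7
    exact ⟨fun p hp => h.1 p hp i (by omega) (by omega), h.2.1 i (by omega) (by omega), h.2.2 i (by omega) (by omega)⟩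
  · have h := checkAll_sound T eqPairs 12 8 122760 _ _ chk8
    exact ⟨fun p hp => h.1 p hp i (by omega) (by omega), h.2.1 i (by omega) (by omega), h.2.2 i (by omega) (by omega)⟩
  · have h := checkAll_sound T eqPairs 12 8 122760 _ _ chk9
    exact ⟨fun p hp => h.1 p hp i (by omega) (by omega), h.2.1 i (by omega) (by omega), h.2.2 i (by omega) (by omega)⟩
  · have h := checkAll_sound T eqPairs 12 8 122760 _ _ chk10
    exact ⟨fun p hp => h.1 p hp i (by omega) (by omega), h.2.1 i (by omega) (by omega), h.2.2 i (by omega) (by omega)⟩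
  · have h := checkAll_sound T eqPairs 12 8 122760 _ _ chk11
    exact ⟨fun p hp => h.1 p hp i (by omega) (by omega), h.2.1 i (by omega) (by omega), h.2.2 i (by omega) (by omega)⟩
  · have h := checkAll_sound T eqPairs 12 8 122760 _ _ chk12
    exact ⟨fun p hp => h.1 p hp i (by omega) (by omega), h.2.1 i (by omega) (by omega), h.2.2 i (by omega) (by omega)⟩
  · have h := checkAll_sound T eqPairs 12 8 122760 _ _ chk13
    exact ⟨fun p hp => h.1 p hp i (by omega) (by omega), h.2.1 i (by omega) (by omega), h.2.2 i (by omega) (by omega)⟩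
  · have h := checkAll_sound T eqPairs 12 8 122760 _ _ chk14
    exact ⟨fun p hp => h.1 p hp i (by omega) (by omega), h.2.1 i (by omega) (by omega), h.2.2 i (by omega) (by omega)⟩
  · have h := checkAll_sound T eqPairs 12 8 122760 _ _ chk15
    exact ⟨fun p hp => h.1 p hp i (by omega) (by omega), h.2.1 i (by omega) (by omega), h.2.2 i (by omega) (by omega)⟩
  · have h := checkAll_sound T eqPairs 12 8 122760 _ _ chk16
    exact ⟨fun p hp => h.1 p hp i (by omega) (by omega), h.2.1 i (by omega) (by omega), h.2.2 i (by omega) (by omega)⟩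
  · have h := checkAll_sound T eqPairs 12 8 122760 _ _ chk17
    exact ⟨fun p hp => h.1 p hp i (by omega) (by omega), h.2.1 i (by omega) (by omega), h.2.2 i (by omega) (by omega)⟩
  · have h := checkAll_sound T eqPairs 12 8 122760 _ _ chk18
    exact ⟨fun p hp => h.1 p hp i (by omega) (by omega), h.2.1 i (by omega) (by omega), h.2.2 i (by omega) (by omega)⟩
  · have h := checkAll_sound T eqPairs 12 8 122760 _ _ chk19
    exact ⟨fun p hp => h.1 p hp i (by omega) (by omega), h.2.1 i (by omega) (by omega), h.2.2 i (by omega) (by omega)⟩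
  · have h := checkAll_sound T eqPairs 12 8 122760 _ _ chk20
    exact ⟨fun p hp => h.1 p hp i (by omega) (by omega), h.2.1 i (by omega) (by omega), h.2.2 i (by omega) (by omega)⟩
  · have h := checkAll_sound T eqPairs 12 8 122760 _ _ chk21
    exact ⟨fun p hp => h.1 p hp i (by omega) (by omega), h.2.1 i (by omega) (by omega), h.2.2 i (by omega) (by omega)⟩
  · have h := checkAll_sound T eqPairs 12 8 122760 _ _ chk22
    exact ⟨fun p hp => h.1 p hp i (by omega) (by omega), h.2.1 i (by omega) (by omega), h.2.2 i (by omega) (by omega)⟩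
  · have h := checkAll_sound T eqPairs 12 8 122760 _ _ chk23
    exact ⟨fun p hp => h.1 p hp i (by omega) (by omega), h.2.1 i (by omega) (by omega), h.2.2 i (by omega) (by omega)⟩
  · have h := checkAll_sound T eqPairs 12 8 122760 _ _ chk24
    exact ⟨fun p hp => h.1 p hp i (by omega) (by omega), h.2.1 i (by omega) (by omega), h.2.2 i (by omega) (by omega)⟩
  · have h := checkAll_sound T eqPairs 12 8 122760 _ _ chk25
    exact ⟨fun p hp => h.1 p hp i (by omega) (by omega), h.2.1 i (by omega) (by omega), h.2.2 i (by omega) (by omega)⟩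
  · have h := checkAll_sound T eqPairs 12 8 122760 _ _ chk26
    exact ⟨fun p hp => h.1 p hp i (by omega) (by omega), h.2.1 i (by omega) (by omega), h.2.2 i (by omega) (by omega)⟩
  · have h := checkAll_sound T eqPairs 12 8 122760 _ _ chk27
    exact ⟨fun p hp => h.1 p hp i (by omega) (by omega), h.2.1 i (by omega) (by omega), h.2.2 i (by omega) (by omega)⟩
  · have h := checkAll_sound T eqPairs 12 8 122760 _ _ chk28
    exact ⟨fun p hp => h.1 p hp i (by omega) (by omega), h.2.1 i (by omega) (by omega), h.2.2 i (by omega) (by omega)⟩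
  · have h := checkAll_sound T eqPairs 12 8 122760 _ _ chk29
    exact ⟨fun p hp => h.1 p hp i (by omega) (by omega), h.2.1 i (by omega) (by omega), h.2.2 i (by omega) (by omega)⟩
  · have h := checkAll_sound T eqPairs 12 8 122760 _ _ chk30
    exact ⟨fun p hp => h.1 p hp i (by omega) (by omega), h.2.1 i (by omega) (by omega), h.2.2 i (by omega) (by omega)⟩
  · have h := checkAll_sound T eqPairs 12 8 122760 _ _ chk31
    exact ⟨fun p hp => h.1 p hp i (by omega) (by omega), h.2.1 i (by omega) (by omega), h.2.2 i (by omega) (by omega)⟩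
  · have h := checkAll_sound T eqPairs 12 8 122760 _ _ chk32
    exact ⟨fun p hp => h.1 p hp i (by omega) (by omega), h.2.1 i (by omega) (by omega), h.2.2 i (by omega) (by omega)⟩
  · have h := checkAll_sound T eqPairs 12 8 122760 _ _ chk33
    exact ⟨fun p hp => h.1 p hp i (by omega) (by omega), h.2.1 i (by omega) (by omega), h.2.2 i (by omega) (by omega)⟩
  · have h := checkAll_sound T eqPairs 12 8 122760 _ _ chk34
    exact ⟨fun p hp => h.1 p hp i (by omega) (by omega), h.2.1 i (by omega) (by omega), h.2.2 i (by omega) (by omega)⟩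
  · have h := checkAll_sound T eqPairs 12 8 122760 _ _ chk35
    exact ⟨fun p hp => h.1 p hp i (by omega) (by omega), h.2.1 i (by omega) (by omega), h.2.2 i (by omega) (by omega)⟩
  · have h := checkAll_sound T eqPairs 12 8 122760 _ _ chk36
    exact ⟨fun p hp => h.1 p hp i (by omega) (by omega), h.2.1 i (by omega) (by omega), h.2.2 i (by omega) (by omega)⟩
  · have h := checkAll_sound T eqPairs 12 8 122760 _ _ chk37
    exact ⟨fun p hp => h.1 p hp i (by omega) (by omega), h.2.1 i (by omega) (by omega), h.2.2 i (by omega) (by omega)⟩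
  · have h := checkAll_sound T eqPairs 12 8 122760 _ _ chk38
    exact ⟨fun p hp => h.1 p hp i (by omega) (by omega), h.2.1 i (by omega) (by omega), h.2.2 i (by omega) (by omega)⟩
  · have h := checkAll_sound T eqPairs 12 8 122760 _ _ chk39
    exact ⟨fun p hp => h.1 p hp i (by omega) (by omega), h.2.1 i (by omega) (by omega), h.2.2 i (by omega) (by omega)⟩
  · have h := checkAll_sound T eqPairs 12 8 122760 _ _ chk40
    exact ⟨fun p hp => h.1 p hp i (by omega) (by omega), h.2.1 i (by omega) (by omega), h.2.2 i (by omega) (by omega)⟩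
  · have h := checkAll_sound T eqPairs 12 8 122760 _ _ chk41
    exact ⟨fun p hp => h.1 p hp i (by omega) (by omega), h.2.1 i (by omega) (by omega), h.2.2 i (by omega) (by omega)⟩
  · have h := checkAll_sound T eqPairs 12 8 122760 _ _ chk42
    exact ⟨fun p hp => h.1 p hp i (by omega) (by omega), h.2.1 i (by omega) (by omega), h.2.2 i (by omega) (by omega)⟩
  · have h := checkAll_sound T eqPairs 12 8 122760 _ _ chk43
    exact ⟨fun p hp => h.1 p hp i (by omega) (by omega), h.2.1 i (by omega) (by omega), h.2.2 i (by omega) (by omega)⟩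
  · have h := checkAll_sound T eqPairs 12 8 122760 _ _ chk44
    exact ⟨fun p hp => h.1 p hp i (by omega) (by omega), h.2.1 i (by omega) (by omega), h.2.2 i (by omega) (by omega)⟩
  · have h := checkAll_sound T eqPairs 12 8 122760 _ _ chk45
    exact ⟨fun p hp => h.1 p hp i (by omega) (by omega), h.2.1 i (by omega) (by omega), h.2.2 i (by omega) (by omega)⟩
  · have h := checkAll_sound T eqPairs 12 8 122760 _ _ chk46
    exact ⟨fun p hp => h.1 p hp i (by omega) (by omega), h.2.1 i (by omega) (by omega), h.2.2 i (by omega) (by omega)⟩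
  · have h := checkAll_sound T eqPairs 12 8 122760 _ _ chk47
    exact ⟨fun p hp => h.1 p hp i (by omega) (by omega), h.2.1 i (by omega) (by omega), h.2.2 i (by omega) (by omega)⟩
  · have h := checkAll_sound T eqPairs 12 8 122760 _ _ chk48
    exact ⟨fun p hp => h.1 p hp i (by omega) (by omega), h.2.1 i (by omega) (by omega), h.2.2 i (by omega) (by omega)⟩
  · have h := checkAll_sound T eqPairs 12 8 122760 _ _ chk49
    exact ⟨fun p hp => h.1 p hp i (by omega) (by omega), h.2.1 i (by omega) (by omega), h.2.2 i (by omega) (by omega)⟩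
  · have h := checkAll_sound T eqPairs 12 8 122760 _ _ chk50
    exact ⟨fun p hp => h.1 p hp i (by omega) (by omega), h.2.1 i (by omega) (by omega), h.2.2 i (by omega) (by omega)⟩
  · have h := checkAll_sound T eqPairs 12 8 122760 _ _ chk51
    exact ⟨fun p hp => h.1 p hp i (by omega) (by omega), h.2.1 i (by omega) (by omega), h.2.2 i (by omega) (by omega)⟩
  · have h := checkAll_sound T eqPairs 12 8 122760 _ _ chk52
    exact ⟨fun p hp => h.1 p hp i (by omega) (by omega), h.2.1 i (by omega) (by omega), h.2.2 i (by omega) (by omega)⟩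
  · have h := checkAll_sound T eqPairs 12 8 122760 _ _ chk53
    exact ⟨fun p hp => h.1 p hp i (by omega) (by omega), h.2.1 i (by omega) (by omega), h.2.2 i (by omega) (by omega)⟩
  · have h := checkAll_sound T eqPairs 12 8 122760 _ _ chk54
    exact ⟨fun p hp => h.1 p hp i (by omega) (by omega), h.2.1 i (by omega) (by omega), h.2.2 i (by omega) (by omega)⟩
  · have h := checkAll_sound T eqPairs 12 8 122760 _ _ chk55
    exact ⟨fun p hp => h.1 p hp i (by omega) (by omega), h.2.1 i (by omega) (by omega), h.2.2 i (by omega) (by omega)⟩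
  · have h := checkAll_sound T eqPairs 12 8 122760 _ _ chk56
    exact ⟨fun p hp => h.1 p hp i (by omega) (by omega), h.2.1 i (by omega) (by omega), h.2.2 i (by omega) (by omega)⟩
  · have h := checkAll_sound T eqPairs 12 8 122760 _ _ chk57
    exact ⟨fun p hp => h.1 p hp i (by omega) (by omega), h.2.1 i (by omega) (by omega), h.2.2 i (by omega) (by omega)⟩
  · have h := checkAll_sound T eqPairs 12 8 122760 _ _ chk58
    exact ⟨fun p hp => h.1 p hp i (by omega) (by omega), h.2.1 i (by omega) (by omega), h.2.2 i (by omega) (by omega)⟩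
  · have h := checkAll_sound T eqPairs 12 8 122760 _ _ chk59
    exact ⟨fun p hp => h.1 p hp i (by omega) (by omega), h.2.1 i (by omega) (by omega), h.2.2 i (by omega) (by omega)⟩
  · have h := checkAll_sound T eqPairs 12 8 122760 _ _ chk60
    exact ⟨fun p hp => h.1 p hp i (by omega) (by omega), h.2.1 i (by omega) (by omega), h.2.2 i (by omega) (by omega)⟩
  · have h := checkAll_sound T eqPairs 12 8 122760 _ _ chk61
    exact ⟨fun p hp => h.1 p hp i (by omega) (by omega), h.2.1 i (by omega) (by omega), h.2.2 i (by omega) (by omega)⟩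
  · have h := checkAll_sound T eqPairs 12 8 122760 _ _ chk62
    exact ⟨fun p hp => h.1 p hp i (by omega) (by omega), h.2.1 i (by omega) (by omega), h.2.2 i (by omega) (by omega)⟩
  · have h := checkAll_sound T eqPairs 12 8 122760 _ _ chk63
    exact ⟨fun p hp => h.1 p hp i (by omega) (by omega), h.2.1 i (by omega) (by omega), h.2.2 i (by omega) (by omega)⟩
  · have h := checkAll_sound T eqPairs 12 8 122760 _ _ chk64
    exact ⟨fun p hp => h.1 p hp i (by omega) (by omega), h.2.1 i (by omega) (by omega), h.2.2 i (by omega) (by omega)⟩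
  · have h := checkAll_sound T eqPairs 12 8 122760 _ _ chk65
    exact ⟨fun p hp => h.1 p hp i (by omega) (by omega), h.2.1 i (by omega) (by omega), h.2.2 i (by omega) (by omega)⟩
  · have h := checkAll_sound T eqPairs 12 8 122760 _ _ chk66
    exact ⟨fun p hp => h.1 p hp i (by omega) (by omega), h.2.1 i (by omega) (by omega), h.2.2 i (by omega) (by omega)⟩
  · have h := checkAll_sound T eqPairs 12 8 122760 _ _ chk67
    exact ⟨fun p hp => h.1 p hp i (by omega) (by omega), h.2.1 i (by omega) (by omega), h.2.2 i (by omega) (by omega)⟩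
  · have h := checkAll_sound T eqPairs 12 8 122760 _ _ chk68
    exact ⟨fun p hp => h.1 p hp i (by omega) (by omega), h.2.1 i (by omega) (by omega), h.2.2 i (by omega) (by omega)⟩
  · have h := checkAll_sound T eqPairs 12 8 122760 _ _ chk69
    exact ⟨fun p hp => h.1 p hp i (by omega) (by omega), h.2.1 i (by omega) (by omega), h.2.2 i (by omega) (by omega)⟩
  · have h := checkAll_sound T eqPairs 12 8 122760 _ _ chk70
    exact ⟨fun p hp => h.1 p hp i (by omega) (by omega), h.2.1 i (by omega) (by omega), h.2.2 i (by omega) (by omega)⟩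
  · have h := checkAll_sound T eqPairs 12 8 122760 _ _ chk71
    exact ⟨fun p hp => h.1 p hp i (by omega) (by omega), h.2.1 i (by omega) (by omega), h.2.2 i (by omega) (by omega)⟩
  · have h := checkAll_sound T eqPairs 12 8 122760 _ _ chk72
    exact ⟨fun p hp => h.1 p hp i (by omega) (by omega), h.2.1 i (by omega) (by omega), h.2.2 i (by omega) (by omega)⟩
  · have h := checkAll_sound T eqPairs 12 8 122760 _ _ chk73
    exact ⟨fun p hp => h.1 p hp i (by omega) (by omega), h.2.1 i (by omega) (by omega), h.2.2 i (by omega) (by omega)⟩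
  · have h := checkAll_sound T eqPairs 12 8 122760 _ _ chk74
    exact ⟨fun p hp => h.1 p hp i (by omega) (by omega), h.2.1 i (by omega) (by omega), h.2.2 i (by omega) (by omega)⟩
  · have h := checkAll_sound T eqPairs 12 8 122760 _ _ chk75
    exact ⟨fun p hp => h.1 p hp i (by omega) (by omega), h.2.1 i (by omega) (by omega), h.2.2 i (by omega) (by omega)⟩
  · have h := checkAll_sound T eqPairs 12 8 122760 _ _ chk76
    exact ⟨fun p hp => h.1 p hp i (by omega) (by omega), h.2.1 i (by omega) (by omega), h.2.2 i (by omega) (by omega)⟩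
  · have h := checkAll_sound T eqPairs 12 8 122760 _ _ chk77
    exact ⟨fun p hp => h.1 p hp i (by omega) (by omega), h.2.1 i (by omega) (by omega), h.2.2 i (by omega) (by omega)⟩
  · have h := checkAll_sound T eqPairs 12 8 122760 _ _ chk78
    exact ⟨fun p hp => h.1 p hp i (by omega) (by omega), h.2.1 i (by omega) (by omega), h.2.2 i (by omega) (by omega)⟩
  · have h := checkAll_sound T eqPairs 12 8 122760 _ _ chk79
    exact ⟨fun p hp => h.1 p hp i (by omega) (by omega), h.2.1 i (by omega) (by omega), h.2.2 i (by omega) (by omega)⟩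
  · have h := checkAll_sound T eqPairs 12 8 122760 _ _ chk80
    exact ⟨fun p hp => h.1 p hp i (by omega) (by omega), h.2.1 i (by omega) (by omega), h.2.2 i (by omega) (by omega)⟩
  · have h := checkAll_sound T eqPairs 12 8 122760 _ _ chk81
    exact ⟨fun p hp => h.1 p hp i (by omega) (by omega), h.2.1 i (by omega) (by omega), h.2.2 i (by omega) (by omega)⟩
  · have h := checkAll_sound T eqPairs 12 8 122760 _ _ chk82
    exact ⟨fun p hp => h.1 p hp i (by omega) (by omega), h.2.1 i (by omega) (by omega), h.2.2 i (by omega) (by omega)⟩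
  · have h := checkAll_sound T eqPairs 12 8 122760 _ _ chk83
    exact ⟨fun p hp => h.1 p hp i (by omega) (by omega), h.2.1 i (by omega) (by omega), h.2.2 i (by omega) (by omega)⟩
  · have h := checkAll_sound T eqPairs 12 8 122760 _ _ chk84
    exact ⟨fun p hp => h.1 p hp i (by omega) (by omega), h.2.1 i (by omega) (by omega), h.2.2 i (by omega) (by omega)⟩
  · have h := checkAll_sound T eqPairs 12 8 122760 _ _ chk85
    exact ⟨fun p hp => h.1 p hp i (by omega) (by omega), h.2.1 i (by omega) (by omega), h.2.2 i (by omega) (by omega)⟩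
  · have h := checkAll_sound T eqPairs 12 8 122760 _ _ chk86
    exact ⟨fun p hp => h.1 p hp i (by omega) (by omega), h.2.1 i (by omega) (by omega), h.2.2 i (by omega) (by omega)⟩
  · have h := checkAll_sound T eqPairs 12 8 122760 _ _ chk87
    exact ⟨fun p hp => h.1 p hp i (by omega) (by omega), h.2.1 i (by omega) (by omega), h.2.2 i (by omega) (by omega)⟩
  · have h := checkAll_sound T eqPairs 12 8 122760 _ _ chk88
    exact ⟨fun p hp => h.1 p hp i (by omega) (by omega), h.2.1 i (by omega) (by omega), h.2.2 i (by omega) (by omega)⟩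
  · have h := checkAll_sound T eqPairs 12 8 122760 _ _ chk89
    exact ⟨fun p hp => h.1 p hp i (by omega) (by omega), h.2.1 i (by omega) (by omega), h.2.2 i (by omega) (by omega)⟩
  · have h := checkAll_sound T eqPairs 12 8 122760 _ _ chk90
    exact ⟨fun p hp => h.1 p hp i (by omega) (by omega), h.2.1 i (by omega) (by omega), h.2.2 i (by omega) (by omega)⟩
  · have h := checkAll_sound T eqPairs 12 8 122760 _ _ chk91
    exact ⟨fun p hp => h.1 p hp i (by omega) (by omega), h.2.1 i (by omega) (by omega), h.2.2 i (by omega) (by omega)⟩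
  · have h := checkAll_sound T eqPairs 12 8 122760 _ _ chk92
    exact ⟨fun p hp => h.1 p hp i (by omega) (by omega), h.2.1 i (by omega) (by omega), h.2.2 i (by omega) (by omega)⟩
  · have h := checkAll_sound T eqPairs 12 8 122760 _ _ chk93
    exact ⟨fun p hp => h.1 p hp i (by omega) (by omega), h.2.1 i (by omega) (by omega), h.2.2 i (by omega) (by omega)⟩
  · have h := checkAll_sound T eqPairs 12 8 122760 _ _ chk94
    exact ⟨fun p hp => h.1 p hp i (by omega) (by omega), h.2.1 i (by omega) (by omega), h.2.2 i (by omega) (by omega)⟩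
  · have h := checkAll_sound T eqPairs 12 8 122760 _ _ chk95
    exact ⟨fun p hp => h.1 p hp i (by omega) (by omega), h.2.1 i (by omega) (by omega), h.2.2 i (by omega) (by omega)⟩
  · have h := checkAll_sound T eqPairs 12 8 122760 _ _ chk96
    exact ⟨fun p hp => h.1 p hp i (by omega) (by omega), h.2.1 i (by omega) (by omega), h.2.2 i (by omega) (by omega)⟩
  · have h := checkAll_sound T eqPairs 12 8 122760 _ _ chk97
    exact ⟨fun p hp => h.1 p hp i (by omega) (by omega), h.2.1 i (by omega) (by omega), h.2.2 i (by omega) (by omega)⟩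
  · have h := checkAll_sound T eqPairs 12 8 122760 _ _ chk98
    exact ⟨fun p hp => h.1 p hp i (by omega) (by omega), h.2.1 i (by omega) (by omega), h.2.2 i (by omega) (by omega)⟩
  · have h := checkAll_sound T eqPairs 12 8 122760 _ _ chk99
    exact ⟨fun p hp => h.1 p hp i (by omega) (by omega), h.2.1 i (by omega) (by omega), h.2.2 i (by omega) (by omega)⟩
  · have h := checkAll_sound T eqPairs 12 8 122760 _ _ chk100
    exact ⟨fun p hp => h.1 p hp i (by omega) (by omega), h.2.1 i (by omega) (by omega), h.2.2 i (by omega) (by omega)⟩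
  · have h := checkAll_sound T eqPairs 12 8 122760 _ _ chk101
    exact ⟨fun p hp => h.1 p hp i (by omega) (by omega), h.2.1 i (by omega) (by omega), h.2.2 i (by omega) (by omega)⟩
  · have h := checkAll_sound T eqPairs 12 8 122760 _ _ chk102
    exact ⟨fun p hp => h.1 p hp i (by omega) (by omega), h.2.1 i (by omega) (by omega), h.2.2 i (by omega) (by omega)⟩
  · have h := checkAll_sound T eqPairs 12 8 122760 _ _ chk103
    exact ⟨fun p hp => h.1 p hp i (by omega) (by omega), h.2.1 i (by omega) (by omega), h.2.2 i (by omega) (by omega)⟩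
  · have h := checkAll_sound T eqPairs 12 8 122760 _ _ chk104
    exact ⟨fun p hp => h.1 p hp i (by omega) (by omega), h.2.1 i (by omega) (by omega), h.2.2 i (by omega) (by omega)⟩
  · have h := checkAll_sound T eqPairs 12 8 122760 _ _ chk105
    exact ⟨fun p hp => h.1 p hp i (by omega) (by omega), h.2.1 i (by omega) (by omega), h.2.2 i (by omega) (by omega)⟩
  · have h := checkAll_sound T eqPairs 12 8 122760 _ _ chk106
    exact ⟨fun p hp => h.1 p hp i (by omega) (by omega), h.2.1 i (by omega) (by omega), h.2.2 i (by omega) (by omega)⟩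
  · have h := checkAll_sound T eqPairs 12 8 122760 _ _ chk107
    exact ⟨fun p hp => h.1 p hp i (by omega) (by omega), h.2.1 i (by omega) (by omega), h.2.2 i (by omega) (by omega)⟩
  · have h := checkAll_sound T eqPairs 12 8 122760 _ _ chk108
    exact ⟨fun p hp => h.1 p hp i (by omega) (by omega), h.2.1 i (by omega) (by omega), h.2.2 i (by omega) (by omega)⟩
  · have h := checkAll_sound T eqPairs 12 8 122760 _ _ chk109
    exact ⟨fun p hp => h.1 p hp i (by omega) (by omega), h.2.1 i (by omega) (by omega), h.2.2 i (by omega) (by omega)⟩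
  · have h := checkAll_sound T eqPairs 12 8 122760 _ _ chk110
    exact ⟨fun p hp => h.1 p hp i (by omega) (by omega), h.2.1 i (by omega) (by omega), h.2.2 i (by omega) (by omega)⟩
  · have h := checkAll_sound T eqPairs 12 8 122760 _ _ chk111
    exact ⟨fun p hp => h.1 p hp i (by omega) (by omega), h.2.1 i (by omega) (by omega), h.2.2 i (by omega) (by omega)⟩
  · have h := checkAll_sound T eqPairs 12 8 122760 _ _ chk112
    exact ⟨fun p hp => h.1 p hp i (by omega) (by omega), h.2.1 i (by omega) (by omega), h.2.2 i (by omega) (by omega)⟩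
  · have h := checkAll_sound T eqPairs 12 8 122760 _ _ chk113
    exact ⟨fun p hp => h.1 p hp i (by omega) (by omega), h.2.1 i (by omega) (by omega), h.2.2 i (by omega) (by omega)⟩
  · have h := checkAll_sound T eqPairs 12 8 122760 _ _ chk114
    exact ⟨fun p hp => h.1 p hp i (by omega) (by omega), h.2.1 i (by omega) (by omega), h.2.2 i (by omega) (by omega)⟩
  · have h := checkAll_sound T eqPairs 12 8 122760 _ _ chk115
    exact ⟨fun p hp => h.1 p hp i (by omega) (by omega), h.2.1 i (by omega) (by omega), h.2.2 i (by omega) (by omega)⟩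
  · have h := checkAll_sound T eqPairs 12 8 122760 _ _ chk116
    exact ⟨fun p hp => h.1 p hp i (by omega) (by omega), h.2.1 i (by omega) (by omega), h.2.2 i (by omega) (by omega)⟩
  · have h := checkAll_sound T eqPairs 12 8 122760 _ _ chk117
    exact ⟨fun p hp => h.1 p hp i (by omega) (by omega), h.2.1 i (by omega) (by omega), h.2.2 i (by omega) (by omega)⟩
  · have h := checkAll_sound T eqPairs 12 8 122760 _ _ chk118
    exact ⟨fun p hp => h.1 p hp i (by omega) (by omega), h.2.1 i (by omega) (by omega), h.2.2 i (by omega) (by omega)⟩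
  · have h := checkAll_sound T eqPairs 12 8 122760 _ _ chk119
    exact ⟨fun p hp => h.1 p hp i (by omega) (by omega), h.2.1 i (by omega) (by omega), h.2.2 i (by omega) (by omega)⟩

end Cfsg.Agent.Lib.H6.ONF
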