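import Cfsg.Agent.Lib.H6.ONF.Tab0
import Cfsg.Agent.Lib.H6.ONF.Tab1
import Cfsg.Agent.Lib.H6.ONF.Tab2
import Cfsg.Agent.Lib.H6.ONF.Tab3
import Cfsg.Agent.Lib.H6.ONF.Tab4
import Cfsg.Agent.Lib.H6.ONF.Tab5
import Cfsg.Agent.Lib.H6.ONF.Tab6
import Cfsg.Agent.Lib.H6.ONF.Tab7
import Cfsg.Agent.Lib.H6.ONF.Tab8
import Cfsg.Agent.Lib.H6.ONF.Tab9
import Cfsg.Agent.Lib.H6.ONF.Tab10
import Cfsg.Agent.Lib.H6.ONF.Tab11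

set_option autoImplicit false
set_option maxRecDepth 1000000

/-! # the tables as a function (generated) -/

namespace Cfsg.Agent.Lib.H6.ONF

open Cfsg.Agent.Lib.H17.CosetCert Cfsg.Agent.Lib.H6.PermTab Cfsg.Agent.Lib.H6.PermFast

/-- the table of the letter `x` -/
noncomputable def tab (x : ℕ) : BT :=
  cond (Nat.beq x 0) t0
    (cond (Nat.beq x 1) t1
    (cond (Nat.beq x 2) t2
    (cond (Nat.beq x 3) t3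
    (cond (Nat.beq x 4) t4
    (cond (Nat.beq x 5) t5
    (cond (Nat.beq x 6) t6
    (cond (Nat.beq x 7) t7
    (cond (Nat.beq x 8) t8
    (cond (Nat.beq x 9) t9
    (cond (Nat.beq x 10) t10
    (t11)))))))))))

/-- the image of the point `i` under the letter `x` -/
noncomputable def T (x i : ℕ) : ℕ :=
  lkR 9 17 511 131071 (tab x) i

/-- the inverse letter -/
def iv (x : ℕ) : ℕ :=
  cond (Nat.beq x 0) 1 (cond (Nat.beq x 1) 0 (cond (Nat.beq x 10) 11 (cond (Nat.beq x 11) 10 x)))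

/-- the conjugating word of the involution of `J1` -/
def wJ : List ℕ := [3, 2, 4, 5, 4, 3, 6, 0, 5, 4, 3, 5, 4]

/-- the conjugating word of the involution of `M11` -/
def wM : List ℕ := [3, 4, 5, 4, 3, 6, 0, 3, 5, 4, 3, 5, 4, 6]

/-- the involution of `J1` as a word -/
def uJ : List ℕ := [4, 5, 3, 4, 5, 1, 6, 3, 4, 5, 4, 2, 3, 2, 3, 2, 4, 5, 4, 3, 6, 0, 5, 4, 3, 5, 4]

/-- the involution of `M11` as a word -/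
def uM : List ℕ := [6, 4, 5, 3, 4, 5, 3, 1, 6, 3, 4, 5, 4, 3, 2, 3, 4, 5, 4, 3, 6, 0, 3, 5, 4, 3, 5, 4, 6]

/-- the pairs of words with equal images -/
def eqPairs : List (List ℕ × List ℕ) := [
  ([0, 1], []),
  ([1, 0], []),
  ([2, 2], []),
  ([3, 3], []),
  ([4, 4], []),
  ([5, 5], []),
  ([6, 6], []),
  ([7, 7], []),
  ([8, 8], []),
  ([9, 9], []),
  ([10, 11], []),
  ([11, 10], []),
  ([2, 3, 2, 3, 2, 3], []),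
  ([2, 4, 2, 4], []),
  ([2, 5, 2, 5], []),
  ([2, 6, 2, 6], []),
  ([2, 7, 2, 7], []),
  ([3, 4, 3, 4, 3, 4], []),
  ([3, 5, 3, 5], []),
  ([3, 6, 3, 6], []),
  ([3, 7, 3, 7], []),
  ([4, 5, 4, 5, 4, 5, 4, 5, 4, 5, 4, 5, 4, 5, 4, 5], []),
  ([4, 6, 4, 6], []),
  ([4, 7, 4, 7], []),
  ([5, 6, 5, 6, 5, 6], []),
  ([5, 7, 5, 7], []),
  ([6, 7, 6, 7, 6, 7], []),
  ([2, 7, 1, 1], []),
  ([2, 7, 5, 4, 5, 4, 5, 4, 5, 4], []),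
  ([4, 1, 5, 1, 5, 4, 5, 0, 5, 0], []),
  ([5, 1, 4, 1, 4, 5, 4, 0, 4, 0], []),
  ([3, 4, 5, 0, 3, 4, 5, 0, 3, 4, 5, 0, 3, 4, 5, 0, 3, 4, 5, 0], []),
  ([0, 3, 4, 0, 4, 3, 0, 3, 4, 0, 4], []),
  ([0, 6, 5, 0, 5, 6, 0, 6, 5, 0, 5], []),
  ([4, 5, 3, 4, 5, 1, 6, 3, 4, 5, 4, 2, 3, 2, 3, 2, 4, 5, 4, 3, 6, 0, 5, 4, 3, 5, 4], [8]),
  ([6, 4, 5, 3, 4, 5, 3, 1, 6, 3, 4, 5, 4, 3, 2, 3, 4, 5, 4, 3, 6, 0, 3, 5, 4, 3, 5, 4, 6], [9]),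
  ([8, 2, 3, 8, 3, 2], [10]),
  ([8, 2, 3, 8, 2, 3, 8, 2, 3, 8, 2, 3, 8, 2, 3, 8, 2, 3, 8, 2, 3], []),
  ([8, 2, 3, 10, 10, 10, 8, 2, 3, 10, 10, 10, 8, 2, 3, 10, 10, 10, 8, 2, 3, 10, 10, 10, 8, 2, 3, 10, 10, 10], []),
  ([8, 2, 3, 10, 10, 10, 10, 10, 10, 8, 2, 3, 8, 2, 3, 8, 3, 2, 8, 3, 2, 8, 2, 3, 10, 10, 10, 10, 10, 10, 8, 2, 3, 8, 2, 3, 8, 3, 2, 8, 3, 2], []),
  ([10, 10, 10, 10, 10, 10, 10, 10, 10, 10, 10, 10, 10, 10, 10, 10, 10, 10, 10], []),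
  ([11, 8, 2, 3, 8, 3, 2], []),
  ([0, 0, 0, 0], []),
  ([9, 0, 9, 0, 9, 0, 9, 0, 9, 0, 9, 0, 9, 0, 9, 0, 9, 0, 9, 0, 9, 0], []),
  ([9, 0, 0, 9, 0, 0, 9, 0, 0, 9, 0, 0, 9, 0, 0, 9, 0, 0], []),
  ([9, 0, 9, 0, 9, 1, 9, 0, 9, 0, 0, 9, 1, 9, 0, 9, 1, 9, 1], [])]

end Cfsg.Agent.Lib.H6.ONF
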